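import Cfsg.Agent.Lib.SuzRankThree.Setup

/-!
Kernel checks for the subgroups of index 1365 and for the orbits of the point stabilisers.
-/

set_option autoImplicit false
set_option maxRecDepth 100000

namespace CfsgLib.SuzRankThree

open CfsgLib.RankThreeRecog

/-- A product of the generators of the 2-group. -/
noncomputable def wProd (l : List ℕ) : List ℕ := (l.map fun i => wg.getD i []).flatten

/-- The polycyclic check of a generator. -/
noncomputable def pcOK (i : ℕ) : Bool :=
  ((wg.getD i []).all fun a => decide (a < 6)) && fixesAll img [1] (wg.getD i []) &&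
  ((wsq.getD i []).all fun j => decide (j < i)) &&
  sameOn img base (wg.getD i [] ++ wg.getD i []) (wProd (wsq.getD i [])) &&
  (List.range i).all fun j =>
    (((wcj.getD i []).getD j []).all fun k => decide (k < i)) &&
      sameOn img base (wg.getD i [] ++ (wg.getD j [] ++ (wg.getD i []).reverse)) (wProd ((wcj.getD i []).getD j []))

theorem pc_ok : ((List.range 12).all pcOK && Nat.beq wg.length 12) = true := by decide +kernel

/-- The chain with expanded generators. -/
noncomputable def wChain : List Level := wLevels.map fun l => (l.1, l.2.1.map wProd, l.2.2)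

theorem wChain_ok : (chainOK img 1782 wChain [] wSizes && decide (4096 ≤ wSizes.prod) &&
    wLevels.all fun l => l.2.1.all fun w => w.all fun j => decide (j < 12)) = true := by decide +kernel

theorem wOrbits_ok : (connOK gensW esW_0 1 mskW_0 && connOK gensW esW_1 2 mskW_1 && connOK gensW esW_2 16 mskW_2 &&
    connOK gensW esW_3 25 mskW_3 && connOK gensW esW_4 29 mskW_4 && connOK gensW esW_5 42 mskW_5 &&
    (gensW.all fun w => wg.any fun v => decide (v = w)) &&
    Nat.beq mskK2_0 (Nat.lor (Nat.lor (Nat.lor mskW_0 mskW_1) (Nat.lor mskW_2 mskW_3)) (Nat.lor mskW_4 mskW_5)) &&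
    Nat.beq (maskCount 1782 mskW_0) 1 && Nat.beq (maskCount 1782 mskW_1) 1024 && Nat.beq (maskCount 1782 mskW_2) 4 &&
    Nat.beq (maskCount 1782 mskW_3) 64 && Nat.beq (maskCount 1782 mskW_4) 16 && Nat.beq (maskCount 1782 mskW_5) 256 &&
    Nat.beq (maskOf lineL) (Nat.lor mskW_0 mskW_2) && Nat.testBit mskW_0 1 && Nat.beq mskW_0 (Nat.shiftLeft 1 1))
    = true := by decide +kernel

/-- The masks of the lines strictly increase. -/
noncomputable def linesOK : List (List ℕ) → ℕ → Bool :=
  fun l => List.rec (fun _ => true)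
    (fun w _ ih prev => decide (prev < imageMask img w lineL) && inK w && ih (imageMask img w lineL)) l

theorem lines_ok : (linesOK lineWords 0 && Nat.beq lineWords.length 1365 &&
    lineL.all fun u => decide (u < 1782)) = true := by decide +kernel

theorem lineStab_ok : (connOK gensP2 esP2_0 47 mskP2_0 && connOK gensP2 esP2_1 72 mskP2_1 &&
    (gensP2.all fun w => inK w && Nat.beq (imageMask img w lineL) (maskOf lineL)) &&
    Nat.beq mskK1_0 (Nat.lor mskP2_0 mskP2_1) &&
    Nat.beq (maskCount 1782 mskP2_0) 160 && Nat.beq (maskCount 1782 mskP2_1) 256) = true := by decide +kernel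

theorem nearStab_ok : (connOK gensJ esJ_0 47 mskJ_0 && connOK gensJ esJ_1 72 mskJ_1 && connOK gensJ esJ_2 79 mskJ_2 &&
    (gensJ.all fun w => inK w && fixesAll img [47] w) &&
    Nat.beq mskK1_0 (Nat.lor (Nat.lor mskJ_0 mskJ_1) mskJ_2) && Nat.testBit mskJ_0 47 &&
    Nat.beq (maskCount 1782 mskJ_0) 1 && Nat.beq (maskCount 1782 mskJ_1) 315 &&
    Nat.beq (maskCount 1782 mskJ_2) 100) = true := by decide +kernel

theorem farStab_ok : (connOK gensP1a esP1a_0 47 mskP1a_0 && connOK gensP1a esP1a_1 130 mskP1a_1 &&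
    connOK gensP1b esP1b_0 1 mskP1b_0 && connOK gensP1b esP1b_1 2 mskP1b_1 && connOK gensP1b esP1b_2 16 mskP1b_2 &&
    connOK gensP1b esP1b_3 25 mskP1b_3 &&
    (gensP1a.all fun w => inK w && fixesAll img [1] w) && (gensP1b.all fun w => inK w && fixesAll img [1] w) &&
    Nat.beq mskK1_0 (Nat.lor mskP1a_0 mskP1a_1) &&
    Nat.beq mskK2_0 (Nat.lor (Nat.lor mskP1b_0 mskP1b_1) (Nat.lor mskP1b_2 mskP1b_3)) &&
    Nat.testBit mskP1b_0 1 &&
    Nat.beq (maskCount 1782 mskP1a_0) 320 && Nat.beq (maskCount 1782 mskP1a_1) 96 &&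
    Nat.beq (maskCount 1782 mskP1b_0) 1 && Nat.beq (maskCount 1782 mskP1b_1) 1024 &&
    Nat.beq (maskCount 1782 mskP1b_2) 20 && Nat.beq (maskCount 1782 mskP1b_3) 320) = true := by decide +kernel

end CfsgLib.SuzRankThree
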